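import Groth.Agent.Fano.K714.QuartDef
import Groth.Agent.Fano.K714.FrIrr
import Groth.Agent.Fano.K714.JacSm
import Groth.Agent.Lefpen.H703.NondegOpen
import Mathlib.LinearAlgebra.Matrix.Rank

/-!
# Irreducibility of the space of decompositions `f = v₀ M₀ + v₁ M₁ + v₂ M₂`

* `mem_range_iff`: for independent `v₀, v₁, v₂` a cubic form is `∑ v_j M_j` iff it vanishes on the line `V(v)`.
* `irr_sol`: `Irr k (Sol f)` for a smooth cubic threefold `V_+(f)` (char 0, algebraically closed).
* `irreducible_sol`: the form used for elliptic quartics (S16527).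
-/

set_option autoImplicit false
universe u
open CategoryTheory AlgebraicGeometry MvPolynomial

namespace K324.QuartIrr

open Groth.Agent.Fano.K714.Rat Groth.Agent.Fano.K714.Quart K714.Irr LefPen Groth.Agent.Lefpen.H703.ZOpen
  K714.Frames K656.Trilin

variable {k : Type u} [Field k]

/-! ### linear algebra -/

/-- A matrix with independent rows is surjective. -/
theorem mulVec_surj {n m : ℕ} {w : Fin n → Fin m → k} (h : LinearIndependent k w) :
    Function.Surjective (Matrix.of w).mulVecLin := by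
  rw [← LinearMap.range_eq_top]
  apply Submodule.eq_top_of_finrank_eq
  have h1 : (Matrix.of w).rank = Fintype.card (Fin n) := LinearIndependent.rank_matrix (M := Matrix.of w) h
  rw [Matrix.rank] at h1
  rw [h1]
  simp

theorem finrank_ker {n m : ℕ} {w : Fin n → Fin m → k} (h : LinearIndependent k w) :
    n + Module.finrank k ↥(LinearMap.ker (Matrix.of w).mulVecLin) = m := by
  have h1 := LinearMap.finrank_range_add_finrank_ker (Matrix.of w).mulVecLin
  rw [LinearMap.range_eq_top.2 (mulVec_surj h), finrank_top] at h1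
  simpa using h1

theorem mem_ker {n m : ℕ} {w : Fin n → Fin m → k} {x : Fin m → k} :
    x ∈ LinearMap.ker (Matrix.of w).mulVecLin ↔ ∀ j, w j ⬝ᵥ x = 0 := by
  rw [LinearMap.mem_ker, Matrix.mulVecLin_apply, funext_iff]
  rfl

/-- Extension of three independent vectors to an invertible matrix. -/
theorem exists_matrix {v : Fin 3 → Fin 5 → k} (h : LinearIndependent k v) :
    ∃ A A' : Matrix (Fin 5) (Fin 5) k, A * A' = 1 ∧ A' * A = 1 ∧ ∀ j : Fin 3, A (Fin.castAdd 2 j) = v j := by
  classical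
  obtain ⟨Q, hQ⟩ := (Submodule.span k (Set.range v)).exists_isCompl
  have h3 : Module.finrank k ↥(Submodule.span k (Set.range v)) = 3 := by
    rw [finrank_span_eq_card h]; simp
  have h2 : Module.finrank k ↥Q = 2 := by
    have := Submodule.finrank_add_eq_of_isCompl hQ
    rw [h3] at this
    have h5 : Module.finrank k (Fin 5 → k) = 5 := by simp
    omega
  let β := Module.finBasisOfFinrankEq k ↥Q h2
  have hβ : LinearIndependent k fun i => ((β i : ↥Q) : Fin 5 → k) :=
    β.linearIndependent.map' Q.subtype (Submodule.ker_subtype Q)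
  have hspan : Submodule.span k (Set.range fun i => ((β i : ↥Q) : Fin 5 → k)) ≤ Q := by
    rw [Submodule.span_le]
    rintro _ ⟨i, rfl⟩
    exact (β i).2
  have h4 : LinearIndependent k (Sum.elim v fun i => ((β i : ↥Q) : Fin 5 → k)) :=
    h.sum_type hβ (hQ.disjoint.mono_right hspan)
  let A : Matrix (Fin 5) (Fin 5) k := Fin.append v fun i => ((β i : ↥Q) : Fin 5 → k)
  have h5 : LinearIndependent k A.row := by
    have h6 := h4.comp finSumFinEquiv.symm finSumFinEquiv.symm.injective
    convert h6 using 1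
    funext i
    refine Fin.addCases (m := 3) (n := 2) (fun i => ?_) (fun i => ?_) i
    · simp only [Function.comp_apply, finSumFinEquiv_symm_apply_castAdd, Sum.elim_inl]
      exact Fin.append_left _ _ _
    · simp only [Function.comp_apply, finSumFinEquiv_symm_apply_natAdd, Sum.elim_inr]
      exact Fin.append_right _ _ _
  have h6 : IsUnit A := Matrix.linearIndependent_rows_iff_isUnit.1 h5
  have h7 : IsUnit A.det := (Matrix.isUnit_iff_isUnit_det A).1 h6
  exact ⟨A, A⁻¹, Matrix.mul_nonsing_inv A h7, Matrix.nonsing_inv_mul A h7, fun j => Fin.append_left _ _ _⟩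

/-! ### substitutions -/

/-- Linear substitution. -/
noncomputable def S (A : Matrix (Fin 5) (Fin 5) k) : MvPolynomial (Fin 5) k →ₐ[k] MvPolynomial (Fin 5) k :=
  aeval (fun i : Fin 5 => ∑ j : Fin 5, C (A i j) * X j)

theorem eval_S (A : Matrix (Fin 5) (Fin 5) k) (f : MvPolynomial (Fin 5) k) (x : Fin 5 → k) :
    eval x (S A f) = eval (A.mulVec x) f := eval_aeval_linear A f x

theorem hom_S (A : Matrix (Fin 5) (Fin 5) k) {f : MvPolynomial (Fin 5) k} {d : ℕ} (hf : f.IsHomogeneous d) :
    (S A f).IsHomogeneous d := by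
  have h := hf.aeval (fun i : Fin 5 => ∑ j : Fin 5, C (A i j) * X j) (n := 1) (fun i => by
    refine IsHomogeneous.sum _ _ _ fun j _ => ?_
    have := (isHomogeneous_C (Fin 5) (A i j)).mul (isHomogeneous_X k j)
    simpa using this)
  simpa [S] using h

theorem S_S [Infinite k] {A A' : Matrix (Fin 5) (Fin 5) k} (h : A' * A = 1) (f : MvPolynomial (Fin 5) k) :
    S A (S A' f) = f := by
  refine MvPolynomial.funext fun x => ?_
  rw [eval_S, eval_S, Matrix.mulVec_mulVec, h, Matrix.one_mulVec]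

/-! ### the ideal of a coordinate line -/

theorem homComp_mul_X (p : MvPolynomial (Fin 5) k) (i : Fin 5) (n : ℕ) :
    homogeneousComponent (n + 1) (X i * p) = X i * homogeneousComponent n p := by
  classical
  ext d
  rw [coeff_homogeneousComponent, mul_comm, coeff_mul_X', mul_comm, coeff_mul_X']
  by_cases hi : i ∈ d.support
  · rw [if_pos hi, if_pos hi, coeff_homogeneousComponent]
    have h1 : Finsupp.single i 1 ≤ d := by
      rw [Finsupp.single_le_iff]
      exact Nat.one_le_iff_ne_zero.2 (Finsupp.mem_support_iff.1 hi)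
    have h2 : (d - Finsupp.single i 1).degree + 1 = d.degree := by
      conv_rhs => rw [← tsub_add_cancel_of_le h1]
      rw [map_add, Finsupp.degree_single]
    have h3 : d.degree = n + 1 ↔ (d - Finsupp.single i 1).degree = n := by omega
    simp only [h3]
  · rw [if_neg hi, if_neg hi, ite_self]

theorem exists_quad_of_vanish [Infinite k] {g : MvPolynomial (Fin 5) k} (hg : g.IsHomogeneous 3)
    (h : ∀ x : Fin 5 → k, (∀ j : Fin 3, x (Fin.castAdd 2 j) = 0) → eval x g = 0) :
    ∃ q : Fin 3 → MvPolynomial (Fin 5) k, (∀ j, (q j).IsHomogeneous 2) ∧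
      g = ∑ j : Fin 3, X (Fin.castAdd 2 j) * q j := by
  classical
  let I : Ideal (MvPolynomial (Fin 5) k) := Ideal.span (Set.range fun j : Fin 3 => X (Fin.castAdd 2 j))
  let D : Matrix (Fin 5) (Fin 5) k := Matrix.diagonal (Fin.append (fun _ : Fin 3 => (0 : k)) (fun _ : Fin 2 => 1))
  have hD : ∀ x : Fin 5 → k, D.mulVec x = fun i => (Fin.append (fun _ : Fin 3 => (0 : k)) (fun _ : Fin 2 => 1)) i * x i := by
    intro x
    funext i
    exact Matrix.mulVec_diagonal _ _ _
  have h0 : S D g = 0 := by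
    refine MvPolynomial.funext fun x => ?_
    rw [eval_S, map_zero]
    refine h _ fun j => ?_
    rw [hD]
    simp only
    rw [Fin.append_left, zero_mul]
  have h1 : (Ideal.Quotient.mkₐ k I).comp (S D) = Ideal.Quotient.mkₐ k I := by
    refine MvPolynomial.algHom_ext fun i => ?_
    have h2 : S D (X i) = C ((Fin.append (fun _ : Fin 3 => (0 : k)) (fun _ : Fin 2 => 1)) i) * X i := by
      refine MvPolynomial.funext fun x => ?_
      rw [eval_S, hD]
      simp
    rw [AlgHom.comp_apply, h2]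
    refine Fin.addCases (m := 3) (n := 2) (fun j => ?_) (fun j => ?_) i
    · rw [Fin.append_left, map_zero, zero_mul, map_zero]
      symm
      rw [Ideal.Quotient.mkₐ_eq_mk, Ideal.Quotient.eq_zero_iff_mem]
      exact Ideal.subset_span ⟨j, rfl⟩
    · rw [Fin.append_right, map_one, one_mul]
  have h2 : g ∈ I := by
    have h3 := congrArg (fun φ => φ g) h1
    simp only [AlgHom.comp_apply, h0, map_zero] at h3
    rw [Ideal.Quotient.mkₐ_eq_mk] at h3
    exact Ideal.Quotient.eq_zero_iff_mem.1 h3.symm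
  obtain ⟨c, hc⟩ := (Submodule.mem_span_range_iff_exists_fun _).1 h2
  refine ⟨fun j => homogeneousComponent 2 (c j), fun j => homogeneousComponent_isHomogeneous _ _, ?_⟩
  have h3 : homogeneousComponent 3 g = g := by
    rw [homogeneousComponent_of_mem ((mem_homogeneousSubmodule _ _).2 hg), if_pos rfl]
  rw [← h3, ← hc, map_sum]
  refine Finset.sum_congr rfl fun j _ => ?_
  rw [smul_eq_mul, mul_comm, homComp_mul_X]

/-! ### quadratic forms -/

theorem exists_quad_eq [CharZero k] {q : MvPolynomial (Fin 5) k} (hq : q.IsHomogeneous 2) :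
    ∃ M : Fin 5 → Fin 5 → k, (quad M).1 = q := by
  have h2 : (2 : k) ≠ 0 := by norm_num
  have hinf : Infinite k := Infinite.of_injective (Nat.cast : ℕ → k) Nat.cast_injective
  refine ⟨fun i j => eval 0 (pderiv j (pderiv i q)) / 2, ?_⟩
  refine MvPolynomial.funext fun x => ?_
  rw [eval_quad]
  apply mul_left_cancel₀ h2
  have h3 := eval_euler hq x
  push_cast at h3
  rw [h3, Finset.mul_sum]
  refine Finset.sum_congr rfl fun i _ => ?_
  have h4 : (pderiv i q).IsHomogeneous 1 := hq.pderiv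
  rw [eval_euler1 h4, Finset.mul_sum, Finset.mul_sum]
  refine Finset.sum_congr rfl fun j _ => ?_
  field_simp

theorem lin_add (v w : Fin 5 → k) : lin (v + w) = lin v + lin w := by
  simp only [lin, Pi.add_apply, add_smul, Finset.sum_add_distrib]

theorem lin_smul (c : k) (v : Fin 5 → k) : lin (c • v) = c • lin v := by
  simp only [lin, Pi.smul_apply, smul_eq_mul, mul_smul, Finset.smul_sum]

theorem quad_add (M N : Fin 5 → Fin 5 → k) : quad (M + N) = quad M + quad N := by
  simp only [quad, Pi.add_apply, add_smul, Finset.sum_add_distrib]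

theorem quad_smul (c : k) (M : Fin 5 → Fin 5 → k) : quad (c • M) = c • quad M := by
  simp only [quad, Pi.smul_apply, smul_eq_mul, mul_smul, Finset.smul_sum]

/-- `∑ v_j M_j` -/
noncomputable def B (v : Fin 3 → Fin 5 → k) (M : Fin 3 → Fin 5 → Fin 5 → k) : Form 4 k 3 :=
  ⟨∑ j : Fin 3, (lin (v j)).1 * (quad (M j)).1, by
    refine Submodule.sum_mem _ fun j _ => (mem_homogeneousSubmodule _ _).mpr ?_
    exact ((mem_homogeneousSubmodule _ _).1 (lin (v j)).2).mul ((mem_homogeneousSubmodule _ _).1 (quad (M j)).2)⟩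

/-- `∑ v_j M_j`, bilinear. -/
noncomputable def BL (k : Type u) [Field k] :
    (Fin 3 → Fin 5 → k) →ₗ[k] (Fin 3 → Fin 5 → Fin 5 → k) →ₗ[k] Form 4 k 3 :=
  LinearMap.mk₂ k B
    (fun v w M => Subtype.ext (by
      simp only [B, Pi.add_apply, lin_add, Submodule.coe_add, add_mul, Finset.sum_add_distrib]))
    (fun c v M => Subtype.ext (by
      simp only [B, Pi.smul_apply, lin_smul, Submodule.coe_smul, smul_mul_assoc, Finset.smul_sum]))
    (fun v M N => Subtype.ext (by
      simp only [B, Pi.add_apply, quad_add, Submodule.coe_add, mul_add, Finset.sum_add_distrib]))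
    (fun c v M => Subtype.ext (by
      simp only [B, Pi.smul_apply, quad_smul, Submodule.coe_smul, mul_smul_comm, Finset.smul_sum]))

theorem BL_apply (v : Fin 3 → Fin 5 → k) (M : Fin 3 → Fin 5 → Fin 5 → k) : BL k v M = B v M := rfl

theorem mem_range_iff [Infinite k] [CharZero k] {v : Fin 3 → Fin 5 → k} (hv : LinearIndependent k v)
    (g : Form 4 k 3) :
    g ∈ LinearMap.range (BL k v) ↔ ∀ x : Fin 5 → k, (∀ j, v j ⬝ᵥ x = 0) → eval x g.1 = 0 := by
  constructor
  · rintro ⟨M, rfl⟩ x hx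
    rw [BL_apply]
    simp only [B, map_sum, map_mul]
    refine Finset.sum_eq_zero fun j _ => ?_
    have h1 : eval x (lin (v j)).1 = 0 := by
      rw [eval_lin]
      exact hx j
    rw [h1, zero_mul]
  · intro h
    obtain ⟨A, A', h1, h2, h3⟩ := exists_matrix hv
    have hg : g.1.IsHomogeneous 3 := (mem_homogeneousSubmodule _ _).1 g.2
    obtain ⟨q, hq, hq2⟩ := exists_quad_of_vanish (hom_S A' hg) (fun x hx => by
      rw [eval_S]
      refine h _ fun j => ?_
      have h4 : v j ⬝ᵥ A'.mulVec x = (A.mulVec (A'.mulVec x)) (Fin.castAdd 2 j) := by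
        rw [← h3 j]; rfl
      rw [h4, Matrix.mulVec_mulVec, h1, Matrix.one_mulVec]
      exact hx j)
    choose M hM using fun j => exists_quad_eq (hom_S A (hq j))
    refine ⟨M, Subtype.ext ?_⟩
    have h5 : g.1 = S A (S A' g.1) := (S_S h2 _).symm
    rw [h5, hq2, map_sum, BL_apply]
    simp only [B]
    refine Finset.sum_congr rfl fun j _ => ?_
    rw [map_mul, hM]
    congr 1
    refine MvPolynomial.funext fun x => ?_
    rw [eval_lin, eval_S, eval_X, ← h3 j]
    rfl

/-- The rank is constant. -/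
theorem finrank_range [Infinite k] [CharZero k] {v v' : Fin 3 → Fin 5 → k} (hv : LinearIndependent k v)
    (hv' : LinearIndependent k v') :
    Module.finrank k ↥(LinearMap.range (BL k v)) = Module.finrank k ↥(LinearMap.range (BL k v')) := by
  have key : ∀ {v v' : Fin 3 → Fin 5 → k} (hv : LinearIndependent k v) (hv' : LinearIndependent k v'),
      Module.finrank k ↥(LinearMap.range (BL k v)) ≤ Module.finrank k ↥(LinearMap.range (BL k v')) := by
    intro v v' hv hv'
    obtain ⟨A, A', h1, h2, h3⟩ := exists_matrix hv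
    obtain ⟨A₁, A₁', g1, g2, g3⟩ := exists_matrix hv'
    have hfin : Module.Finite k (Form 4 k 3) := Groth.Agent.Lefpen.H703.NondegOpen.finite_form 4 3
    -- `σ g = g ∘ (A' A₁)`
    let σ : Form 4 k 3 →ₗ[k] Form 4 k 3 :=
      { toFun := fun g => ⟨S (A' * A₁) g.1, (mem_homogeneousSubmodule _ _).2
          (hom_S _ ((mem_homogeneousSubmodule _ _).1 g.2))⟩
        map_add' := fun g h => Subtype.ext (by simp only [Submodule.coe_add, map_add])
        map_smul' := fun c g => Subtype.ext (by simp only [Submodule.coe_smul, map_smul, RingHom.id_apply]) }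
    have hσ : Function.Injective σ := by
      intro g h hgh
      have e1 : S (A' * A₁) g.1 = S (A' * A₁) h.1 := congrArg Subtype.val hgh
      have e2 : (A' * A₁) * (A₁' * A) = 1 := by
        rw [Matrix.mul_assoc, ← Matrix.mul_assoc A₁, g1, Matrix.one_mul, h2]
      have e3 := congrArg (S (A₁' * A)) e1
      rw [S_S e2, S_S e2] at e3
      exact Subtype.ext e3
    have hmap : (LinearMap.range (BL k v)).map σ ≤ LinearMap.range (BL k v') := by
      rintro _ ⟨g, hg, rfl⟩
      rw [mem_range_iff hv']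
      intro x hx
      change eval x (S (A' * A₁) g.1) = 0
      rw [eval_S]
      refine (mem_range_iff hv g).1 hg _ fun j => ?_
      have h4 : v j ⬝ᵥ (A' * A₁).mulVec x = (A.mulVec ((A' * A₁).mulVec x)) (Fin.castAdd 2 j) := by
        rw [← h3 j]; rfl
      rw [h4, Matrix.mulVec_mulVec, ← Matrix.mul_assoc, h1, Matrix.one_mul]
      have h5 : (A₁.mulVec x) (Fin.castAdd 2 j) = v' j ⬝ᵥ x := by
        rw [← g3 j]; rfl
      rw [h5, hx j]
    rw [(Submodule.equivMapOfInjective σ hσ (LinearMap.range (BL k v))).finrank_eq]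
    exact Submodule.finrank_mono hmap
  exact le_antisymm (key hv hv') (key hv' hv)

/-! ### the base: triples of linear forms vanishing on a line of the cubic -/

/-- `v ↦ (v_j · a, v_j · b)` -/
noncomputable def PA (p : (Fin 5 → k) × (Fin 5 → k)) :
    (Fin 3 → Fin 5 → k) →ₗ[k] (Fin 3 → k) × (Fin 3 → k) where
  toFun v := (fun j => v j ⬝ᵥ p.1, fun j => v j ⬝ᵥ p.2)
  map_add' v w := Prod.ext (funext fun j => add_dotProduct (v j) (w j) p.1)
    (funext fun j => add_dotProduct (v j) (w j) p.2)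
  map_smul' c v := Prod.ext (funext fun j => smul_dotProduct c (v j) p.1)
    (funext fun j => smul_dotProduct c (v j) p.2)

theorem PA_fst (p : (Fin 5 → k) × (Fin 5 → k)) (v : Fin 3 → Fin 5 → k) (j : Fin 3) :
    (PA p v).1 j = v j ⬝ᵥ p.1 := rfl

theorem PA_snd (p : (Fin 5 → k) × (Fin 5 → k)) (v : Fin 3 → Fin 5 → k) (j : Fin 3) :
    (PA p v).2 j = v j ⬝ᵥ p.2 := rfl

theorem isPolyMap_PA (v : Fin 3 → Fin 5 → k) :
    IsPolyMap k (fun p : (Fin 5 → k) × (Fin 5 → k) => PA p v) := by
  let L : (Fin 5 → k) × (Fin 5 → k) →ₗ[k] (Fin 3 → k) × (Fin 3 → k) :=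
    { toFun := fun p => (fun j => v j ⬝ᵥ p.1, fun j => v j ⬝ᵥ p.2)
      map_add' := fun p q => Prod.ext (funext fun j => dotProduct_add (v j) p.1 q.1)
        (funext fun j => dotProduct_add (v j) p.2 q.2)
      map_smul' := fun c p => Prod.ext (funext fun j => dotProduct_smul c (v j) p.1)
        (funext fun j => dotProduct_smul c (v j) p.2) }
  exact isPolyMap_linear L

theorem PA_surj {p : (Fin 5 → k) × (Fin 5 → k)} (h : LinearIndependent k ![p.1, p.2]) :
    Function.Surjective (PA p) := by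
  rintro ⟨α, β⟩
  choose v hv using fun j : Fin 3 => mulVec_surj h ![α j, β j]
  refine ⟨v, Prod.ext (funext fun j => ?_) (funext fun j => ?_)⟩
  · rw [PA_fst, dotProduct_comm]
    exact congrFun (hv j) 0
  · rw [PA_snd, dotProduct_comm]
    exact congrFun (hv j) 1

variable (T : (Fin 5 → k) →ₗ[k] (Fin 5 → k) →ₗ[k] (Fin 5 → k) →ₗ[k] k)

/-- Triples of independent linear forms vanishing on a line of the cubic. -/
def B₀ : Set (Fin 3 → Fin 5 → k) :=
  {v | LinearIndependent k v ∧ ∃ p ∈ FR T, ∀ j, v j ⬝ᵥ p.1 = 0 ∧ v j ⬝ᵥ p.2 = 0}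

variable {T}

theorem irr_B₀ [IsAlgClosed k] [CharZero k] (hT : IsSym3 T) (hsm : K714.Surf.SmoothOn T ⊤) : Irr k (B₀ T) := by
  have hinf : Infinite k := IsAlgClosed.instInfinite
  have h1 := (frames_irr hT hsm).of_linear (W := Fin 3 → Fin 5 → k) (W' := (Fin 3 → k) × (Fin 3 → k))
    PA isPolyMap_PA (fun _ => 0) (isPolyMap_const 0) 6 (fun p hp => by
      rw [LinearMap.range_eq_top.2 (PA_surj hp.1), finrank_top]
      simp) (fun p _ => Submodule.zero_mem _)
  have h2 : IsZOpen k {q : ((Fin 5 → k) × (Fin 5 → k)) × (Fin 3 → Fin 5 → k) | LinearIndependent k q.2} := by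
    have h := K713.RangeOpen.isZOpen_linearIndependent (k := k)
      (V := ((Fin 5 → k) × (Fin 5 → k)) × (Fin 3 → Fin 5 → k)) (W := Fin 5 → k) (r := 3) (fun j q => q.2 j) (by
        intro j
        exact isPolyMap_linear ((LinearMap.proj (R := k) (φ := fun _ : Fin 3 => Fin 5 → k) j).comp
          (LinearMap.snd k ((Fin 5 → k) × (Fin 5 → k)) (Fin 3 → Fin 5 → k))))
    exact h
  have h3 := h1.inter_open h2 (by
    obtain ⟨p, hp⟩ := (frames_irr hT hsm).1
    have h4 := finrank_ker hp.1
    have h5 : Module.finrank k ↥(LinearMap.ker (Matrix.of ![p.1, p.2]).mulVecLin) = 3 := by omega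
    let β := Module.finBasisOfFinrankEq k _ h5
    refine ⟨(p, fun j => ((β j : ↥(LinearMap.ker (Matrix.of ![p.1, p.2]).mulVecLin)) : Fin 5 → k)), ⟨hp, ?_⟩, ?_⟩
    · have h6 : ∀ j i, (![p.1, p.2] i) ⬝ᵥ ((β j : ↥(LinearMap.ker (Matrix.of ![p.1, p.2]).mulVecLin)) : Fin 5 → k) = 0 :=
        fun j i => mem_ker.1 (β j).2 i
      refine Prod.ext (funext fun j => ?_) (funext fun j => ?_)
      · rw [PA_fst, dotProduct_comm]
        exact h6 j 0
      · rw [PA_snd, dotProduct_comm]
        exact h6 j 1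
    · exact β.linearIndependent.map' (Submodule.subtype _) (Submodule.ker_subtype _))
  have h4 := h3.image (isPolyMap_snd (k := k))
  convert h4 using 1
  ext v
  constructor
  · rintro ⟨hv, p, hp, h5⟩
    refine ⟨(p, v), ⟨⟨hp, ?_⟩, hv⟩, rfl⟩
    refine Prod.ext (funext fun j => ?_) (funext fun j => ?_)
    · rw [PA_fst]
      exact (h5 j).1
    · rw [PA_snd]
      exact (h5 j).2
  · rintro ⟨⟨p, v'⟩, ⟨⟨hp, h5⟩, hv⟩, rfl⟩
    refine ⟨hv, p, hp, fun j => ⟨?_, ?_⟩⟩
    · exact congrFun (congrArg Prod.fst h5) j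
    · exact congrFun (congrArg Prod.snd h5) j

/-! ### the decompositions -/

theorem sol_eq [IsAlgClosed k] [CharZero k] (f : Form 4 k 3) :
    Sol f = {q : (Fin 3 → Fin 5 → k) × (Fin 3 → Fin 5 → Fin 5 → k) | q.1 ∈ B₀ (tri f.1) ∧ BL k q.1 q.2 = f} := by
  have hf : f.1.IsHomogeneous 3 := (mem_homogeneousSubmodule _ _).1 f.2
  have hinf : Infinite k := IsAlgClosed.instInfinite
  ext ⟨v, M⟩
  constructor
  · rintro ⟨hv, hM⟩
    have hM' : BL k v M = f := Subtype.ext hM.symm
    refine ⟨⟨hv, ?_⟩, hM'⟩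
    have h2 : Module.finrank k ↥(LinearMap.ker (Matrix.of v).mulVecLin) = 2 := by
      have h1 : 3 + Module.finrank k ↥(LinearMap.ker (Matrix.of v).mulVecLin) = 5 := finrank_ker hv
      omega
    obtain ⟨a, b, hab⟩ := exists_frame h2
    have h3 : LinearIndependent k ![a, b] := indep_of_span h2 hab
    have h4 : ∀ x ∈ LinearMap.ker (Matrix.of v).mulVecLin, ∀ j, v j ⬝ᵥ x = 0 := fun x hx => mem_ker.1 hx
    refine ⟨(a, b), (isLine_span_iff (tri_sym f.1) (p := (a, b)) h3).1 ⟨?_, fun u hu => ?_⟩, fun j => ⟨?_, ?_⟩⟩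
    · simp only
      rw [hab, h2]
    · simp only at hu
      rw [hab] at hu
      rw [tri_diag hf]
      exact (mem_range_iff hv f).1 ⟨M, hM'⟩ u (h4 u hu)
    · exact h4 a (hab ▸ Submodule.subset_span (by simp)) j
    · exact h4 b (hab ▸ Submodule.subset_span (by simp)) j
  · rintro ⟨⟨hv, -⟩, hM⟩
    exact ⟨hv, (congrArg Subtype.val hM).symm⟩

theorem mem_range_of_mem [IsAlgClosed k] [CharZero k] (f : Form 4 k 3) {v : Fin 3 → Fin 5 → k}
    (hv : v ∈ B₀ (tri f.1)) : f ∈ LinearMap.range (BL k v) := by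
  have hf : f.1.IsHomogeneous 3 := (mem_homogeneousSubmodule _ _).1 f.2
  have hinf : Infinite k := IsAlgClosed.instInfinite
  obtain ⟨hv, p, hp, h1⟩ := hv
  have hl := (isLine_span_iff (tri_sym f.1) hp.1).2 hp
  have h3 : Module.finrank k ↥(LinearMap.ker (Matrix.of v).mulVecLin) = 2 := by
    have h2 : 3 + Module.finrank k ↥(LinearMap.ker (Matrix.of v).mulVecLin) = 5 := finrank_ker hv
    omega
  have h4 : Submodule.span k {p.1, p.2} = LinearMap.ker (Matrix.of v).mulVecLin := by
    apply Submodule.eq_of_le_of_finrank_eq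
    · rw [Submodule.span_le]
      rintro x (rfl | rfl)
      · exact mem_ker.2 fun j => (h1 j).1
      · exact mem_ker.2 fun j => (h1 j).2
    · rw [h3]
      exact hl.1
  rw [mem_range_iff hv]
  intro x hx
  have h5 : x ∈ Submodule.span k {p.1, p.2} := by
    rw [h4]
    exact mem_ker.2 hx
  rw [← tri_diag hf]
  exact hl.2 x h5

/-- **Irreducibility of the space of decompositions.** -/
theorem irr_sol [IsAlgClosed k] [CharZero k] (f : Form 4 k 3) (hf : f ≠ 0) (hs : Smooth (ps f)) :
    Irr k (Sol f) := by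
  have hinf : Infinite k := IsAlgClosed.instInfinite
  have hfin : Module.Finite k (Form 4 k 3) := Groth.Agent.Lefpen.H703.NondegOpen.finite_form 4 3
  have hB := irr_B₀ (tri_sym f.1) (Groth.Agent.Fano.K714.JacSm.smoothOn_tri f hf hs)
  obtain ⟨v₀, hv₀⟩ := hB.1
  have h := hB.of_linear (W := Fin 3 → Fin 5 → Fin 5 → k) (W' := Form 4 k 3) (fun v => BL k v)
    (fun M => isPolyMap_linear ((BL k).flip M)) (fun _ => f) (isPolyMap_const f)
    (Module.finrank k ↥(LinearMap.range (BL k v₀))) (fun v hv => finrank_range hv.1 hv₀.1)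
    (fun v hv => mem_range_of_mem f hv)
  rw [sol_eq]
  exact h

theorem isZOpen_coord (G : MvPolynomial ((Fin 3 × Fin 5) ⊕ (Fin 3 × Fin 5 × Fin 5)) k) :
    IsZOpen k {q : Data k | MvPolynomial.eval (coord q) G ≠ 0} := by
  refine isZOpen_basic (isPolyFun_eval G fun i => ?_)
  rcases i with ⟨i, j⟩ | ⟨i, j, l⟩
  · exact isPolyFun_linear' ((LinearMap.proj (R := k) (φ := fun _ : Fin 5 => k) j).comp
      ((LinearMap.proj (R := k) (φ := fun _ : Fin 3 => Fin 5 → k) i).comp
        (LinearMap.fst k (Fin 3 → Fin 5 → k) (Fin 3 → Fin 5 → Fin 5 → k))))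
  · exact isPolyFun_linear' ((LinearMap.proj (R := k) (φ := fun _ : Fin 5 => k) l).comp
      ((LinearMap.proj (R := k) (φ := fun _ : Fin 5 => Fin 5 → k) j).comp
        ((LinearMap.proj (R := k) (φ := fun _ : Fin 3 => Fin 5 → Fin 5 → k) i).comp
          (LinearMap.snd k (Fin 3 → Fin 5 → k) (Fin 3 → Fin 5 → Fin 5 → k)))))

theorem irreducible_sol [IsAlgClosed k] [CharZero k] (f : LefPen.Form 4 k 3) (hf : f ≠ 0) [hs : Smooth (ps f)] :
    (Sol f).Nonempty ∧ ∀ G G' : MvPolynomial ((Fin 3 × Fin 5) ⊕ (Fin 3 × Fin 5 × Fin 5)) k,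
      (∃ q ∈ Sol f, MvPolynomial.eval (coord q) G ≠ 0) →
      (∃ q ∈ Sol f, MvPolynomial.eval (coord q) G' ≠ 0) →
      ∃ q ∈ Sol f, MvPolynomial.eval (coord q) G ≠ 0 ∧ MvPolynomial.eval (coord q) G' ≠ 0 := by
  have h := irr_sol f hf hs
  refine ⟨h.1, fun G G' ⟨q, hq, hG⟩ ⟨q', hq', hG'⟩ => ?_⟩
  obtain ⟨r, hr, h1, h2⟩ := h.2 _ _ (isZOpen_coord G) (isZOpen_coord G') ⟨q, hq, hG⟩ ⟨q', hq', hG'⟩
  exact ⟨r, hr, h1, h2⟩

end K324.QuartIrr
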